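import Mathlib

/-!
Affine maps of vector spaces: recognition, interpolation and determinant correction.
-/

set_option autoImplicit false
set_option linter.style.haveILetI false

namespace Cfsg.Agent.Lib.Affine62

/-- A bijection preserving affine combinations on lines is affine, when two is invertible. -/
theorem affine_of_collinear {p : ℕ} [Fact p.Prime] (hp : p ≠ 2) {V : Type*} [AddCommGroup V]
    [Module (ZMod p) V] (σ : Equiv.Perm V)
    (h : ∀ (a b : V) (c : ZMod p), σ (a + c • (b - a)) = σ a + c • (σ b - σ a)) :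
    ∃ (A : V ≃ₗ[ZMod p] V) (b : V), ∀ x, σ x = A x + b := by
  have h2 : (2 : ZMod p) ≠ 0 := Ring.two_ne_zero (by rw [ringChar.eq (ZMod p) p]; exact hp)
  set τ : V → V := fun x => σ x - σ 0 with hτ
  have hsm : ∀ (c : ZMod p) (x : V), τ (c • x) = c • τ x := by
    intro c x
    have := h 0 x c
    rw [zero_add, sub_zero] at this
    simp only [hτ]
    rw [this, add_sub_cancel_left]
  have hadd : ∀ x y : V, τ (x + y) = τ x + τ y := by
    intro x y
    have := h x y (2 : ZMod p)⁻¹
    have e : (2 : ZMod p)⁻¹ • (x + y) = x + (2 : ZMod p)⁻¹ • (y - x) := by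
      match_scalars <;> field_simp
      ring
    have e' : τ ((2 : ZMod p)⁻¹ • (x + y)) = (2 : ZMod p)⁻¹ • (τ x + τ y) := by
      simp only [hτ]
      rw [e, this]
      match_scalars <;> field_simp
      all_goals ring
    rw [hsm] at e'
    exact smul_right_injective _ (inv_ne_zero h2) e'
  let L : V →ₗ[ZMod p] V := { toFun := τ, map_add' := hadd, map_smul' := hsm }
  have hL : Function.Bijective L := by
    constructor
    · intro x y hxy
      exact σ.injective (sub_left_inj.mp hxy)
    · intro y
      exact ⟨σ.symm (y + σ 0), by show σ _ - σ 0 = y; rw [Equiv.apply_symm_apply, add_sub_cancel_right]⟩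
  exact ⟨LinearEquiv.ofBijective L hL, σ 0, fun x => by
    show σ x = (σ x - σ 0) + σ 0; rw [sub_add_cancel]⟩

variable {F : Type*} [Field F] {V : Type*} [AddCommGroup V] [Module F V] [FiniteDimensional F V]

/-- An isomorphism between subspaces extends to an automorphism. -/
theorem exists_extend {p q : Submodule F V} (e : p ≃ₗ[F] q) :
    ∃ A : V ≃ₗ[F] V, ∀ x : p, A x = e x := by
  obtain ⟨p', hp'⟩ := Submodule.exists_isCompl p
  obtain ⟨q', hq'⟩ := Submodule.exists_isCompl q
  have h1 := Submodule.finrank_add_eq_of_isCompl hp'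
  have h2 := Submodule.finrank_add_eq_of_isCompl hq'
  have h3 := e.finrank_eq
  let e' : p' ≃ₗ[F] q' := LinearEquiv.ofFinrankEq _ _ (by omega)
  refine ⟨(Submodule.prodEquivOfIsCompl p p' hp').symm.trans
    ((e.prodCongr e').trans (Submodule.prodEquivOfIsCompl q q' hq')), fun x => ?_⟩
  simp [Submodule.prodEquivOfIsCompl_symm_apply_left]

/-- Two tuples with the same linear relations are related by an automorphism. -/
theorem exists_equiv_of_relations {ι : Type*} [Fintype ι] (f g : ι → V)
    (h : ∀ c : ι → F, ∑ i, c i • f i = 0 ↔ ∑ i, c i • g i = 0) :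
    ∃ A : V ≃ₗ[F] V, ∀ i, A (f i) = g i := by
  classical
  set φ := Fintype.linearCombination F f
  set ψ := Fintype.linearCombination F g
  have hk : LinearMap.ker φ = LinearMap.ker ψ := by
    ext c
    exact h c
  let e : LinearMap.range φ ≃ₗ[F] LinearMap.range ψ :=
    φ.quotKerEquivRange.symm.trans ((Submodule.quotEquivOfEq _ _ hk).trans ψ.quotKerEquivRange)
  obtain ⟨A, hA⟩ := exists_extend e
  refine ⟨A, fun i => ?_⟩
  have key : ∀ c, A (φ c) = ψ c := by
    intro c
    rw [show φ c = ((⟨φ c, LinearMap.mem_range_self φ c⟩ : LinearMap.range φ) : V) from rfl, hA]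
    simp only [e, LinearEquiv.trans_apply]
    rw [show (⟨φ c, LinearMap.mem_range_self φ c⟩ : LinearMap.range φ) = φ.quotKerEquivRange (Submodule.Quotient.mk c) from
      Subtype.ext (φ.quotKerEquivRange_apply_mk c).symm, LinearEquiv.symm_apply_apply,
      Submodule.quotEquivOfEq_mk, LinearMap.quotKerEquivRange_apply_mk]
  have := key (Pi.single i 1)
  simpa [φ, ψ, Fintype.linearCombination_apply, Pi.single_apply, ite_smul] using this

/-- An automorphism may be corrected to determinant one without changing it on a proper subspace. -/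
theorem exists_det_one (A : V ≃ₗ[F] V) (W : Submodule F V) (hW : W ≠ ⊤) :
    ∃ B : V ≃ₗ[F] V, LinearMap.det (B : V →ₗ[F] V) = 1 ∧ ∀ x ∈ W, B x = A x := by
  obtain ⟨v, hv⟩ : ∃ v, v ∉ W := by
    by_contra h
    push Not at h
    exact hW ((Submodule.eq_top_iff'.mpr h))
  obtain ⟨f, hf, hWf⟩ := Submodule.exists_dual_map_eq_bot_of_notMem hv inferInstance
  set d := LinearMap.det (A : V →ₗ[F] V) with hd
  have hd0 : d ≠ 0 := (LinearEquiv.isUnit_det' A).ne_zero
  set c := (d⁻¹ - 1) / f v with hc
  let D : V →ₗ[F] V := LinearMap.id + (c • f).smulRight v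
  have hdet : LinearMap.det D = d⁻¹ := by
    rw [show D = LinearMap.transvection (c • f) v from by
      ext x; simp [D, LinearMap.transvection.apply], LinearMap.transvection.det]
    simp only [LinearMap.smul_apply, smul_eq_mul, hc]
    field_simp
    ring
  let D' : V ≃ₗ[F] V := LinearMap.equivOfDetNeZero D (by rw [hdet]; exact inv_ne_zero hd0)
  refine ⟨D'.trans A, ?_, fun x hx => ?_⟩
  · rw [show ((D'.trans A : V ≃ₗ[F] V) : V →ₗ[F] V) = (A : V →ₗ[F] V).comp D from rfl, LinearMap.det_comp,
      hdet, ← hd, mul_inv_cancel₀ hd0]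
  · show A (D x) = A x
    have h0 : f x = 0 := by
      have := Submodule.mem_map_of_mem (f := f) hx
      rwa [hWf, Submodule.mem_bot] at this
    simp [D, h0]

end Cfsg.Agent.Lib.Affine62
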